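import Groth.Agent.Lead.RigidDual.FlatBC
import Groth.Agent.Lead.SelfHom.RelPerf
import Groth.Agent.Lead.ClShriek.QCoh
import Groth.Agent.Lead.ClosedRpush
import Groth.Agent.L10.FMDiag.Basic
import Groth.Agent.L29.BC.AdjTensor

/-!
`a(O)` is a relative dualizing complex in the rigid sense.
-/

set_option autoImplicit false
set_option linter.style.haveILetI false
set_option backward.defeqAttrib.useBackward true
set_option backward.isDefEq.respectTransparency false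
set_option backward.isDefEq.respectTransparency.types false

universe v₁ v₂ u u₁ u₂

open CategoryTheory CategoryTheory.Limits AlgebraicGeometry

attribute [local instance] HasDerivedCategory.standard

noncomputable section

namespace Groth.Lead.RigidDual

open Groth.L00 Groth.L29 Groth.L29.DC

/-- representability passes to shifts -/
theorem bijective_shift {C : Type u₁} [Category.{v₁} C] [HasShift C ℤ] {D : Type u₂} [Category.{v₂} D] [HasShift D ℤ]
    (F : C ⥤ D) [F.CommShift ℤ] {A : C} {B : D} (ξ : F.obj A ⟶ B)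
    (h : ∀ M : C, Function.Bijective fun φ : M ⟶ A => F.map φ ≫ ξ) (M : C) (j : ℤ) :
    Function.Bijective fun φ : M ⟶ A⟦j⟧ => F.map φ ≫ (F.commShiftIso j).hom.app A ≫ ξ⟦j⟧' := by
  let e : (M⟦-j⟧)⟦j⟧ ≅ M := (shiftFunctorCompIsoId C (-j) j (by omega)).app M
  let e₁ : (M⟦-j⟧ ⟶ A) ≃ (M ⟶ A⟦j⟧) :=
    ((Functor.FullyFaithful.ofFullyFaithful (shiftFunctor C j)).homEquiv (X := M⟦-j⟧) (Y := A)).trans (e.homCongr (Iso.refl _))
  let e₂ : (F.obj (M⟦-j⟧) ⟶ B) ≃ (F.obj M ⟶ B⟦j⟧) :=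
    ((Functor.FullyFaithful.ofFullyFaithful (shiftFunctor D j)).homEquiv (X := F.obj (M⟦-j⟧)) (Y := B)).trans
      (((F.mapIso e.symm ≪≫ (F.commShiftIso j).app _).symm).homCongr (Iso.refl _))
  have key : (fun φ : M ⟶ A⟦j⟧ => F.map φ ≫ (F.commShiftIso j).hom.app A ≫ ξ⟦j⟧') ∘ e₁ =
      e₂ ∘ fun ψ => F.map ψ ≫ ξ := by
    funext ψ
    have hn := (F.commShiftIso j).hom.naturality ψ
    dsimp at hn
    change F.map (e.inv ≫ ψ⟦j⟧' ≫ 𝟙 _) ≫ (F.commShiftIso j).hom.app A ≫ ξ⟦j⟧' =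
      (F.map e.inv ≫ (F.commShiftIso j).hom.app _) ≫ (F.map ψ ≫ ξ)⟦j⟧' ≫ 𝟙 _
    simp only [Category.comp_id, Functor.map_comp, Category.assoc]
    rw [reassoc_of% hn]
  have hb := e₂.bijective.comp (h (M⟦-j⟧))
  rw [← key] at hb
  exact (Function.Bijective.of_comp_iff _ e₁.bijective).1 hb

variable {X S : Scheme.{u}} [CompactSpace S] [QuasiSeparatedSpace S] (f : X ⟶ S) [IsProper f] [Flat f]
  [LocallyOfFinitePresentation f] [DCoh.HasLpull (pullback.fst f f)]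
  [PreservesFiniteLimits (Scheme.Modules.pushforward (pullback.diagonal f))]
  [PreservesFiniteColimits (Scheme.Modules.pushforward (pullback.diagonal f))] [DCoh.HasRpush f]
  {hf : DCoh.RpushPreservesQCoh f} {a : DCoh.DQCoh S ⥤ DCoh.DQCoh X} (adj : DCoh.RpushQ f hf ⊣ a) (O : DCoh.DQCoh S)

include adj in
set_option maxHeartbeats 1600000 in
theorem isRelDualizing (hO : Nonempty (O.obj ≅ DCoh.inD S (Coh.structureModule S))) :
    Dual3.IsRelDualizing f (a.obj O).obj := by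
  haveI : CompactSpace X := QuasiCompact.compactSpace_of_compactSpace f
  haveI : QuasiSeparatedSpace X := quasiSeparatedSpace_of_quasiSeparated f
  haveI := fun {A B : Scheme.{u}} (h : A ⟶ B) => RpushQC.hasRpush h
  haveI := fun {A B : Scheme.{u}} (h : A ⟶ B) => KFlat.hasLpull h
  let P := pullback f f
  let p₁ : P ⟶ X := pullback.fst f f
  let p₂ : P ⟶ X := pullback.snd f f
  let Δ : X ⟶ P := pullback.diagonal f
  haveI : IsProper p₂ := inferInstance
  haveI : CompactSpace (P : Scheme.{u}) := QuasiCompact.compactSpace_of_compactSpace p₂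
  haveI : QuasiSeparatedSpace (P : Scheme.{u}) := quasiSeparatedSpace_of_quasiSeparated p₂
  haveI : Dual3.HasHomO Δ := Groth.Lead.ClShriek.hasHomO Δ
  have hR : ∀ {A B : Scheme.{u}} (j : A ⟶ B) [QuasiCompact j] [QuasiSeparated j], DCoh.RpushPreservesQCoh j :=
    fun j _ _ K hK => RpushQC.isQCohD_Rpush j K hK
  obtain ⟨a₂, ⟨adj₂⟩⟩ : ∃ a₂, Nonempty (DCoh.RpushQ p₂ (hR p₂) ⊣ a₂) := by
    haveI := Groth.Agent.S1766.result (P : Scheme.{u}) X p₂ (hR p₂)
    exact ⟨_, ⟨Adjunction.ofIsLeftAdjoint (DCoh.RpushQ p₂ (hR p₂))⟩⟩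
  have hLf : Dual3.LpullPreservesQCoh f := fun K hK => isQCohD_Lpull f hK
  have hL₁ : Dual3.LpullPreservesQCoh p₁ := fun K hK => isQCohD_Lpull p₁ hK
  obtain ⟨e, hξ, hbc⟩ := exists_bc (IsPullback.of_hasPullback f f) (Groth.Lead.SelfHom.perfect_push f) hf (hR p₂)
    (hR f) (hR p₁) adj adj₂ hLf hL₁ (BCAdj.adjQ f (hR f) hLf) (BCAdj.adjQ p₁ (hR p₁) hL₁)
  obtain ⟨hpcK, htor, -⟩ := Groth.Lead.SelfHom.relPerfect f adj O hO
  let ω := (DCoh.Lpull p₁).obj (a.obj O).obj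
  let OX : DCoh.DQCoh X := ⟨DCoh.inD X (Coh.structureModule X), isQCohD_of_iso
    ((DerivedCategory.singleFunctorIsoCompQ X.Modules 0).app _).symm BC.AdjTensor.isQCohD_O0⟩
  obtain ⟨eO⟩ := hO
  obtain ⟨cO⟩ := BCAdj.nonempty_Lpull_OD f
  haveI := hbc O
  let γ : ω ≅ (a₂.obj OX).obj :=
    (DCoh.IsQCohD (X := (P : Scheme.{u}))).ι.mapIso
      (asIso (Dual3.bcMap adj adj₂ e (BCAdj.adjQ f (hR f) hLf) (BCAdj.adjQ p₁ (hR p₁) hL₁) O (hξ _)) ≪≫
        a₂.mapIso (ObjectProperty.isoMk _ ((DCoh.Lpull f).mapIso eO ≪≫ cO) :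
          (Dual3.LpullQ f hLf).obj O ≅ OX))
  -- the diagonal
  obtain ⟨pΔ⟩ := Groth.Lead.ClShriek.nonempty_pushD_iso Δ
  obtain ⟨r⟩ := Groth.L10.FMDiag.nonempty_Rpush_id (X := X)
  let ρ : Dual3.pushD Δ ⋙ DCoh.Rpush p₂ ≅ 𝟭 (DCoh.D X) :=
    Functor.isoWhiskerRight pΔ.symm _ ≪≫ BC.cR (pullback.diagonal_snd f) ≪≫ r
  have hΔq : ∀ M : DCoh.DQCoh X, DCoh.IsQCohD ((Dual3.pushD Δ).obj M.obj) := fun M =>
    isQCohD_of_iso (pΔ.app M.obj) (hR Δ M.obj M.property)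
  let ΔQ : DCoh.DQCoh X → DCoh.DQCoh (P : Scheme.{u}) := fun M => ⟨(Dual3.pushD Δ).obj M.obj, hΔq M⟩
  let u : ΔQ OX ⟶ a₂.obj OX := adj₂.homEquiv _ _ (ObjectProperty.homMk (ρ.hom.app OX.obj))
  let ξ : (Dual3.pushD Δ).obj OX.obj ⟶ ω := u.hom ≫ γ.inv
  let v : OX.obj ⟶ (Groth.Lead.ClShriek.Rsh Δ).obj ω := (Groth.Lead.ClShriek.adjSh Δ).homEquiv _ _ ξ
  -- quasi-coherence
  obtain ⟨c, hc⟩ := BC.exists_isGE_Lpull f (a.obj O).obj htor
  haveI := hc (IsPullback.of_hasPullback f f)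
  have hpcΔ : ∀ m : ℤ, DCoh.IsPseudoCoherentD m
      (DCoh.inD (P : Scheme.{u}) (Groth.Lead.ClShriek.OZ Δ)) := fun m => by
    have hw : Δ ≫ p₂ = 𝟙 X := pullback.diagonal_snd f
    have h1 := Groth.Lead.ClosedRpush.pc_Rpush_closed Δ p₂
      (fun n => by rw [hw]; exact Groth.Lead.ClosedRpush.nPC_of_flat (𝟙 X) n)
      (E := OX.obj) (fun k => pc_of_perfect (isPerfect_of_iso
        ((DerivedCategory.singleFunctorIsoCompQ X.Modules 0).app _).symm BC.AdjTensor.isPerfect_O0) k) m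
    exact isPseudoCoherentD_of_iso (pΔ.app _ ≪≫
      ((Scheme.Modules.pushforward Δ).mapDerivedCategorySingleFunctor 0).app _) h1
  have hG : DCoh.IsQCohD ((Groth.Lead.ClShriek.Rsh Δ).obj ω) :=
    Groth.Lead.ClShriek.isQCohD_Rsh Δ hpcΔ (isQCohD_Lpull p₁ (a.obj O).property) c inferInstance
  haveI : IsIso v := by
    let G : DCoh.DQCoh X := ⟨(Groth.Lead.ClShriek.Rsh Δ).obj ω, hG⟩
    let v' : OX ⟶ G := ObjectProperty.homMk v
    suffices IsIso v' from inferInstanceAs (IsIso ((DCoh.IsQCohD (X := X)).ι.map v'))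
    refine isIso_of_yoneda_map_bijective _ fun M => ?_
    let e₁ : (M ⟶ OX) ≃ ((DCoh.RpushQ p₂ (hR p₂)).obj (ΔQ M) ⟶ OX) :=
      { toFun := fun φ => ObjectProperty.homMk (ρ.hom.app M.obj ≫ φ.hom)
        invFun := fun ψ => ObjectProperty.homMk (ρ.inv.app M.obj ≫ ψ.hom)
        left_inv := fun φ => ObjectProperty.hom_ext _ (Iso.inv_hom_id_app_assoc ρ M.obj φ.hom)
        right_inv := fun ψ => ObjectProperty.hom_ext _ (Iso.hom_inv_id_app_assoc ρ M.obj ψ.hom) }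
    let e₂ : (ΔQ M ⟶ a₂.obj OX) ≃ (M ⟶ G) :=
      (({ toFun := fun k => k.hom ≫ γ.inv
          invFun := fun k => ObjectProperty.homMk (k ≫ γ.hom)
          left_inv := fun k => ObjectProperty.hom_ext _ (by simp)
          right_inv := fun k => by simp } : _ ≃ ((Dual3.pushD Δ).obj M.obj ⟶ ω))).trans
        (((Groth.Lead.ClShriek.adjSh Δ).homEquiv _ _).trans
          ⟨fun k => ObjectProperty.homMk k, fun k => k.hom, fun _ => rfl, fun _ => rfl⟩)
    have : (fun φ : M ⟶ OX => φ ≫ v') = (e₁.trans (adj₂.homEquiv _ _)).trans e₂ := by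
      funext φ
      apply ObjectProperty.hom_ext
      change φ.hom ≫ (Groth.Lead.ClShriek.adjSh Δ).homEquiv _ _ ξ =
        (Groth.Lead.ClShriek.adjSh Δ).homEquiv _ _
          ((adj₂.homEquiv (ΔQ M) OX (ObjectProperty.homMk (ρ.hom.app M.obj ≫ φ.hom))).hom ≫ γ.inv)
      rw [← Adjunction.homEquiv_naturality_left]
      refine congrArg ((Groth.Lead.ClShriek.adjSh Δ).homEquiv _ _) ?_
      let k : ΔQ M ⟶ ΔQ OX := ObjectProperty.homMk ((Dual3.pushD Δ).map φ.hom)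
      have h2 : k ≫ u = adj₂.homEquiv (ΔQ M) OX (ObjectProperty.homMk (ρ.hom.app M.obj ≫ φ.hom)) := by
        rw [← Adjunction.homEquiv_naturality_left]
        refine congrArg (adj₂.homEquiv _ _) (ObjectProperty.hom_ext _ ?_)
        exact ρ.hom.naturality φ.hom
      rw [← h2]
      exact (Category.assoc _ _ _).symm
    rw [this]
    exact ((e₁.trans (adj₂.homEquiv _ _)).trans e₂).bijective
  refine ⟨ξ, hpcK, htor, fun M j => bijective_shift (Dual3.pushD Δ) ξ (fun M => ?_) M j⟩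
  have : (fun φ : M ⟶ OX.obj => (Dual3.pushD Δ).map φ ≫ ξ) =
      ((asIso v).homToEquiv.trans ((Groth.Lead.ClShriek.adjSh Δ).homEquiv M ω).symm) := by
    funext φ
    refine Eq.trans ?_ ((Groth.Lead.ClShriek.adjSh Δ).homEquiv_naturality_left_symm φ v).symm
    rw [show ((Groth.Lead.ClShriek.adjSh Δ).homEquiv _ _).symm v = ξ from Equiv.symm_apply_apply _ _]
  rw [this]
  exact (((asIso v).homToEquiv).trans ((Groth.Lead.ClShriek.adjSh Δ).homEquiv M ω).symm).bijective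

end Groth.Lead.RigidDual
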