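import Groth.Agent.L29.BC.PFNat
import Groth.Agent.L29.BC.SupportPush
import Groth.Agent.L29.BC.Adj
import Groth.Agent.L29.BC.AdjTensor
import Groth.Agent.L29.DCoh.RpushAffine
import Groth.Agent.L29.DCoh.RelBC
import Groth.Agent.L29.RelPC.Module
import Groth.Agent.L29.DCoh.PCNoeth
import Groth.Agent.L29.DCoh.RHomCoh
import Groth.Agent.Lead.RpushHD
import Groth.Agent.L16.Exist.PushPull
import Groth.Agent.L16.CohSupport
import Groth.Agent.L16.Rees.RelVanish
import Groth.Agent.S1054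
import Groth.Agent.L19.ConormalAffine
import Groth.Agent.L29.BCAdj.AdjBC

/-!
Duality for finite morphisms: `Rf_* a ≅ RHom(f_* O, -)`.
-/

set_option autoImplicit false
set_option linter.style.haveILetI false
set_option backward.defeqAttrib.useBackward true
set_option backward.isDefEq.respectTransparency false
set_option backward.isDefEq.respectTransparency.types false

universe u

open CategoryTheory CategoryTheory.Limits AlgebraicGeometry

attribute [local instance] HasDerivedCategory.standard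

noncomputable section

namespace Groth.Lead.FiniteDual

open Groth.L00 Groth.L29 Groth.L29.DC

variable {X Y : Scheme.{u}}

/-- derived direct image of the structure sheaf along an affine morphism -/
theorem nonempty_Rpush_O (f : X ⟶ Y) [IsAffineHom f] [DCoh.HasRpush f] :
    Nonempty ((DCoh.Rpush f).obj (DCoh.inD X (Coh.structureModule X)) ≅
      DCoh.inD Y ((Scheme.Modules.pushforward f).obj (Coh.structureModule X))) := by
  haveI := Groth.L17.PushQCoh.hasInjectiveResolutions X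
  have hq : Coh.IsQCoh (Coh.structureModule X) :=
    Groth.L29.DC.isQCoh_of_iso' (Iso.refl _) (Groth.L19.Conormal.isQCoh_structureModule X)
  let K := (DCoh.Rpush f).obj (DCoh.inD X (Coh.structureModule X))
  haveI : (DCoh.inD X (Coh.structureModule X)).IsGE 0 :=
    (DerivedCategory.isGE_iff _ _).2 fun i hi => Groth.L29.RelPC.isZero_HD_inD (by omega)
  haveI : K.IsGE 0 := RpushQC.isGE_Rpush f _ 0
  haveI : K.IsLE 0 := (DerivedCategory.isLE_iff _ _).2 fun i hi => by
    obtain ⟨n, rfl⟩ : ∃ n : ℕ, i = (n : ℤ) := ⟨i.toNat, by omega⟩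
    exact (RpushQC.isZero_Rpush_affine f _ hq n (by omega)).of_iso
      (Groth.Lead.RpushHD.nonempty_HD_Rpush_inD f _ n).some
  obtain ⟨M, ⟨eM⟩⟩ := DerivedCategory.exists_iso_singleFunctor_obj_of_isGE_of_isLE K 0
  obtain ⟨c⟩ := Groth.L29.RelPC.nonempty_HD0_inD M
  obtain ⟨d⟩ := Groth.Lead.RpushHD.nonempty_HD_Rpush_inD f (Coh.structureModule X) 0
  exact ⟨eM ≪≫ (DerivedCategory.singleFunctor Y.Modules 0).mapIso (c.symm ≪≫ (DerivedCategory.homologyFunctor _ 0).mapIso eM.symm ≪≫ d ≪≫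
    (Scheme.Modules.pushforward f).rightDerivedZeroIsoSelf.app _)⟩

/-- tensoring with a resolution of the structure sheaf -/
theorem nonempty_lt_id (I : CochainComplex X.Modules ℤ) [DCoh.HasLTensorCx I]
    (e : DCoh.toD X I ≅ DCoh.toD X (RHom.O0 X)) : Nonempty (DCoh.LTensorCx I ≅ 𝟭 (DCoh.D X)) := by
  haveI := KFlat.hasLTensorCx (RHom.O0 X)
  obtain ⟨t⟩ := RHom.nonempty_lt_iso e
  have hE : DCoh.IsKFlat (RHom.O0 X) := isKFlat_of_isStrictlyPerfect RHom.isStrictlyPerfect_O0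
  exact ⟨t ≪≫ Localization.liftNatIso DerivedCategory.Q
    (HomologicalComplex.quasiIso X.Modules (ComplexShape.up ℤ)) (DerivedCategory.Q ⋙ DCoh.LTensorCx (RHom.O0 X))
    (DerivedCategory.Q ⋙ 𝟭 (DCoh.D X)) _ _
    (Assoc.allIso _ hE ≪≫ Functor.isoWhiskerRight RHom.unitCxIso _ ≪≫ Functor.leftUnitor _ ≪≫
      (Functor.rightUnitor _).symm)⟩

set_option maxHeartbeats 1600000 in
/-- `Rf_* a ≅ RHom(f_* O, -)` on bounded below quasi-coherent complexes -/
theorem nonempty_iso [IsNoetherian X] [IsNoetherian Y] (f : X ⟶ Y) [IsFinite f] [DCoh.HasRpush f]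
    (hf : DCoh.RpushPreservesQCoh f) (a : DCoh.DQCoh Y ⥤ DCoh.DQCoh X) (adj : DCoh.RpushQ f hf ⊣ a)
    (E : CochainComplex Y.Modules ℤ)
    (hE : Nonempty (DCoh.toD Y E ≅ DCoh.inD Y ((Scheme.Modules.pushforward f).obj (Coh.structureModule X))))
    [DCoh.HasLTensorCx E] [DCoh.HasRSheafHom E] :
    Nonempty (Dual3.bddι Y ⋙ a ⋙ DCoh.RpushQ f hf ⋙ ObjectProperty.ι _ ≅
      Dual3.bddι Y ⋙ ObjectProperty.ι _ ⋙ DCoh.RSheafHom E) := by
  haveI := KFlat.hasLpull f
  haveI : (Scheme.Modules.pullback f).Additive :=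
    (Scheme.Modules.pullbackPushforwardAdjunction f).left_adjoint_additive
  haveI := Groth.L17.PushQCoh.additive_push f
  obtain ⟨eE⟩ := hE
  obtain ⟨eR⟩ := nonempty_Rpush_O f
  obtain ⟨I, i, hIk, hi⟩ := ProjFormulaD.exists_kinj (RHom.O0 X)
  haveI := hIk
  haveI := (DerivedCategory.isIso_Q_map_iff_quasiIso _ i).2 hi
  haveI := KFlat.hasLTensorCx I
  let eI : DCoh.toD X I ≅ DCoh.toD X (RHom.O0 X) := (asIso (DerivedCategory.Q.map i)).symm
  let A := (Proj.pushCx f).obj I
  let A' := (KFlat.RF Y).obj A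
  let rA : A' ⟶ A := (KFlat.rF Y).app A
  haveI : QuasiIso rA := KFlat.quasiIso_rF A
  haveI := KFlat.hasLTensorCx A'
  haveI := (DerivedCategory.isIso_Q_map_iff_quasiIso _ rA).2 inferInstance
  haveI := BC.SupportAdj.isIso_pushComp f I
  let eA : DCoh.toD Y A' ≅ DCoh.toD Y E :=
    asIso (DerivedCategory.Q.map rA) ≪≫ asIso (BC.SupportAdj.pushComp f I) ≪≫
      (DCoh.Rpush f).mapIso (eI ≪≫ ((DerivedCategory.singleFunctorIsoCompQ X.Modules 0).app _).symm) ≪≫ eR ≪≫ eE.symm
  obtain ⟨tE⟩ := RHom.nonempty_lt_iso eA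
  obtain ⟨tI⟩ := nonempty_lt_id I eI
  have hI : DCoh.IsQCohD (DerivedCategory.Q.obj I) := isQCohD_of_iso eI.symm BC.AdjTensor.isQCohD_O0
  obtain ⟨τ, -, hτ⟩ := BC.PFNat.exists_pf f I rA hI
  let σ : DCoh.LTensorCx E ⟶ DCoh.Lpull f ⋙ DCoh.Rpush f :=
    tE.inv ≫ τ ≫ Functor.whiskerLeft (DCoh.Lpull f) (Functor.whiskerRight tI.hom (DCoh.Rpush f) ≫
      (Functor.leftUnitor _).hom)
  have hσ : ∀ K : DCoh.D Y, DCoh.IsQCohD K → IsIso (σ.app K) := fun K hK => by
    haveI := hτ K hK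
    simp only [σ, NatTrans.comp_app, Functor.whiskerLeft_app, Functor.whiskerRight_app, Functor.leftUnitor_hom_app]
    refine @IsIso.comp_isIso _ _ _ _ _ _ _ inferInstance ?_
    refine @IsIso.comp_isIso _ _ _ _ _ _ _ this ?_
    refine @IsIso.comp_isIso _ _ _ _ _ _ _ ?_ (IsIso.id _)
    haveI : IsIso (tI.hom.app ((DCoh.Lpull f).obj K)) := inferInstance
    exact Functor.map_isIso (DCoh.Rpush f) _
  let L := BC.adj f
  let R := DCoh.RSheafHomAdj E
  let θ : ∀ K : DCoh.DQCoh Y, (DCoh.Rpush f).obj (a.obj K).obj ⟶ (DCoh.RSheafHom E).obj K.obj := fun K =>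
    R.homEquiv _ _ (σ.app _ ≫ (DCoh.Rpush f).map (L.counit.app (a.obj K).obj) ≫ (adj.counit.app K).hom)
  have hnat : ∀ {K K' : DCoh.DQCoh Y} (k : K ⟶ K'),
      (DCoh.Rpush f).map (a.map k).hom ≫ θ K' = θ K ≫ (DCoh.RSheafHom E).map k.hom := by
    intro K K' k
    simp only [θ]
    rw [← Adjunction.homEquiv_naturality_left, ← Adjunction.homEquiv_naturality_right]
    refine congrArg (R.homEquiv _ _) ?_
    have h1 : (DCoh.Rpush f).map (a.map k).hom ≫ (adj.counit.app K').hom = (adj.counit.app K).hom ≫ k.hom :=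
      congrArg (fun t => t.hom) (adj.counit.naturality k)
    rw [σ.naturality_assoc, Functor.comp_map, ← Functor.map_comp_assoc]
    erw [L.counit_naturality]
    simp only [Functor.id_map, Functor.map_comp, Category.assoc]
    rw [h1]
  have hpc : ∀ m : ℤ, DCoh.IsPseudoCoherentD m (DCoh.toD Y E) := fun m => by
    let N := (Scheme.Modules.pushforward f).obj (Coh.structureModule X)
    have hz : ∀ j : ℤ, j ≠ 0 → IsZero (DCoh.HD (DCoh.inD Y N) j) := fun j hj => Groth.L29.RelPC.isZero_HD_inD hj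
    have hN : Coh.IsCoh N :=
      Groth.L16.Exist.isCoh_pushforward f (Groth.L16.Rees.RelVanish.isCoh_structureModule X)
    have hcoh : ∀ j, Coh.IsCoh (DCoh.HD (DCoh.inD Y N) j) := fun j => by
      by_cases hj : j = 0
      · subst hj
        obtain ⟨e⟩ := Groth.L29.RelPC.nonempty_HD0_inD N
        exact Groth.L16.CohSupport.isCoh_of_iso e.symm hN
      · exact Groth.L29.DC.RHomC.isCoh_of_isZero (hz j hj)
    haveI : (DCoh.inD Y N).IsLE 0 := (DerivedCategory.isLE_iff _ _).2 fun j hj => hz j (by omega)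
    exact isPseudoCoherentD_of_iso eE.symm (PCNoeth.pc_of_coh (fun j => (hcoh j).1) m 0 fun j _ => hcoh j)
  have hiso : ∀ K : (Dual3.IsBddBelowQ Y).FullSubcategory, IsIso (θ K.obj) := fun K => by
    obtain ⟨c, hc⟩ := K.property
    let H : DCoh.DQCoh Y := ⟨(DCoh.RSheafHom E).obj K.obj.obj,
      BC.SupportAdj.qcoh_RHom_of_pc hpc K.obj.property c hc⟩
    let b : (DCoh.RpushQ f hf).obj (a.obj K.obj) ⟶ H := ObjectProperty.homMk (θ K.obj)
    suffices IsIso b from inferInstanceAs (IsIso ((DCoh.IsQCohD (X := Y)).ι.map b))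
    refine isIso_of_yoneda_map_bijective _ fun M => ?_
    haveI := hσ M.obj M.property
    let M' : DCoh.DQCoh X := ⟨(DCoh.Lpull f).obj M.obj, Groth.Agent.S1054.result f M.obj M.property⟩
    let e₁ : (M ⟶ (DCoh.RpushQ f hf).obj (a.obj K.obj)) ≃ (M' ⟶ a.obj K.obj) :=
      (BCAdj.homQ.trans (L.homEquiv _ _).symm).trans
        ⟨fun v => ObjectProperty.homMk v, fun v => v.hom, fun _ => rfl, fun _ => rfl⟩
    let e₂ : ((DCoh.RpushQ f hf).obj M' ⟶ K.obj) ≃ (M ⟶ H) :=
      ((BCAdj.homQ.trans ((asIso (σ.app M.obj)).symm.homCongr (Iso.refl _))).trans (R.homEquiv _ _)).trans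
        ⟨fun v => ObjectProperty.homMk v, fun v => v.hom, fun _ => rfl, fun _ => rfl⟩
    have : (fun φ : M ⟶ (DCoh.RpushQ f hf).obj (a.obj K.obj) => φ ≫ b) =
        (e₁.trans (adj.homEquiv _ _).symm).trans e₂ := by
      funext φ
      apply ObjectProperty.hom_ext
      change φ.hom ≫ R.homEquiv _ _ _ = R.homEquiv _ _
        (σ.app M.obj ≫ ((adj.homEquiv M' K.obj).symm (ObjectProperty.homMk ((L.homEquiv _ _).symm φ.hom))).hom ≫ 𝟙 _)
      rw [← Adjunction.homEquiv_naturality_left]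
      refine congrArg (R.homEquiv _ _) ?_
      rw [Category.comp_id, Adjunction.homEquiv_counit, Adjunction.homEquiv_counit]
      refine (σ.naturality_assoc φ.hom _).trans ?_
      congr 1
      change (DCoh.Rpush f).map ((DCoh.Lpull f).map φ.hom) ≫ (DCoh.Rpush f).map _ ≫ _ =
        (DCoh.Rpush f).map ((DCoh.Lpull f).map φ.hom ≫ _) ≫ _
      rw [← Functor.map_comp_assoc]
    rw [this]
    exact ((e₁.trans (adj.homEquiv _ _).symm).trans e₂).bijective
  exact ⟨NatIso.ofComponents (fun K => @asIso _ _ _ _ (θ K.obj) (hiso K)) fun {K K'} k => hnat k.hom⟩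

end Groth.Lead.FiniteDual
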